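import Mathlib
import Groth.Prelude.Def_EGA43
import Groth.Agent.Flat.DominateDvr
import Groth.Agent.Equidim.AffineCrit

/-! The criterion by discrete valuation rings for universal openness at a point. -/

set_option autoImplicit false
set_option backward.isDefEq.respectTransparency false
universe u
open CategoryTheory AlgebraicGeometry TopologicalSpace Topology Limits TensorProduct

namespace Groth.Agent.UnivOpenAt.Dvr

/-- Two field extensions embed in a common one. -/
theorem exists_common_field {k F G : Type u} [Field k] [Field F] [Field G] (b : k →+* F) (a : k →+* G) :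
    ∃ (K : Type u) (_ : Field K) (u : F →+* K) (v : G →+* K), u.comp b = v.comp a := by
  letI := a.toAlgebra
  letI := b.toAlgebra
  haveI : Module.Flat k F := Module.Flat.of_free
  haveI : Nontrivial (F ⊗[k] G) :=
    Algebra.TensorProduct.nontrivial_of_algebraMap_injective_of_flat_left k F G (algebraMap k G).injective
  obtain ⟨N, hN⟩ := Ideal.exists_maximal (F ⊗[k] G)
  refine ⟨(F ⊗[k] G) ⧸ N, Ideal.Quotient.field N,
    (Ideal.Quotient.mk N).comp Algebra.TensorProduct.includeLeftRingHom,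
    (Ideal.Quotient.mk N).comp (Algebra.TensorProduct.includeRight (R := k) (A := F) (B := G)).toRingHom,
    RingHom.ext fun c => congrArg (Ideal.Quotient.mk N) ?_⟩
  show (b c) ⊗ₜ[k] (1 : G) = (1 : F) ⊗ₜ[k] (a c)
  rw [show b c = algebraMap k F c from rfl, show a c = algebraMap k G c from rfl,
    Algebra.TensorProduct.tmul_one_eq_one_tmul]

section algebra
variable {A B R₀ R : Type u} [CommRing A] [CommRing B] [CommRing R₀] [CommRing R] [Algebra A B]
  [Algebra A R₀] [Algebra A R]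

/-- Primes of `B ⊗ R` over compatible primes of `B ⊗ R₀` and `R`. -/
theorem exists_prime_tensor (φ : R₀ →ₐ[A] R) (Q₀ : PrimeSpectrum (B ⊗[A] R₀)) (q : PrimeSpectrum R)
    (h : PrimeSpectrum.comap φ.toRingHom q =
      PrimeSpectrum.comap (Algebra.TensorProduct.includeRight : R₀ →ₐ[A] B ⊗[A] R₀).toRingHom Q₀) :
    ∃ Q : PrimeSpectrum (B ⊗[A] R),
      PrimeSpectrum.comap (Algebra.TensorProduct.map (AlgHom.id A B) φ).toRingHom Q = Q₀ ∧
      PrimeSpectrum.comap (Algebra.TensorProduct.includeRight : R →ₐ[A] B ⊗[A] R).toRingHom Q = q := by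
  haveI := q.2
  haveI := Q₀.2
  let k := (PrimeSpectrum.comap φ.toRingHom q).asIdeal
  haveI : k.IsPrime := (PrimeSpectrum.comap φ.toRingHom q).2
  let a : k.ResidueField →+* q.asIdeal.ResidueField :=
    Ideal.ResidueField.map k q.asIdeal φ.toRingHom rfl
  let b : k.ResidueField →+* Q₀.asIdeal.ResidueField :=
    Ideal.ResidueField.map k Q₀.asIdeal (Algebra.TensorProduct.includeRight : R₀ →ₐ[A] B ⊗[A] R₀).toRingHom
      (congrArg PrimeSpectrum.asIdeal h)
  obtain ⟨K, _, u, v, huv⟩ := exists_common_field b a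
  let α₀ : B ⊗[A] R₀ →+* K := u.comp (algebraMap _ Q₀.asIdeal.ResidueField)
  let β : R →+* K := v.comp (algebraMap _ q.asIdeal.ResidueField)
  have hαβ : ∀ r₀, α₀ (1 ⊗ₜ r₀) = β (φ r₀) := fun r₀ => by
    have h1 := congrArg (fun f => f (algebraMap R₀ k.ResidueField r₀)) huv
    simp only [RingHom.comp_apply, a, b, Ideal.ResidueField.map_algebraMap] at h1
    exact h1
  letI : Algebra A K := (β.comp (algebraMap A R)).toAlgebra
  let βA : R →ₐ[A] K := { β with commutes' := fun _ => rfl }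
  let α : B →ₐ[A] K := { α₀.comp (Algebra.TensorProduct.includeLeftRingHom) with
    commutes' := fun c => by
      show α₀ (algebraMap A B c ⊗ₜ (1 : R₀)) = β (algebraMap A R c)
      rw [← φ.commutes, ← hαβ, Algebra.TensorProduct.tmul_one_eq_one_tmul] }
  let Φ : B ⊗[A] R →ₐ[A] K := Algebra.TensorProduct.lift α βA fun _ _ => Commute.all _ _
  have hΦ : ∀ z, Φ ((Algebra.TensorProduct.map (AlgHom.id A B) φ) z) = α₀ z := fun z => by
    induction z using TensorProduct.induction_on with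
    | zero => simp
    | tmul b r₀ =>
      rw [Algebra.TensorProduct.map_tmul, Algebra.TensorProduct.lift_tmul]
      show α₀ (b ⊗ₜ 1) * β (φ r₀) = α₀ (b ⊗ₜ r₀)
      rw [← hαβ, ← map_mul, Algebra.TensorProduct.tmul_mul_tmul, mul_one, one_mul]
    | add z w hz hw => simp only [map_add, hz, hw]
  refine ⟨⟨RingHom.ker Φ.toRingHom, RingHom.ker_isPrime _⟩, ?_, ?_⟩
  · refine PrimeSpectrum.ext (Ideal.ext fun z => ?_)
    show Φ ((Algebra.TensorProduct.map (AlgHom.id A B) φ) z) = 0 ↔ z ∈ Q₀.asIdeal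
    rw [hΦ]
    show u _ = 0 ↔ _
    rw [map_eq_zero, Ideal.algebraMap_residueField_eq_zero]
  · refine PrimeSpectrum.ext (Ideal.ext fun r => ?_)
    show Φ (1 ⊗ₜ r) = 0 ↔ r ∈ q.asIdeal
    rw [Algebra.TensorProduct.lift_tmul, map_one, one_mul]
    show v _ = 0 ↔ _
    rw [map_eq_zero, Ideal.algebraMap_residueField_eq_zero]

/-- A constructible set containing all generizations of a point is a neighbourhood of it. -/
theorem mem_nhds_of_constructible {R : Type u} [CommRing R] (s : Set (PrimeSpectrum R)) (hs : IsConstructible s)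
    (p : PrimeSpectrum R) (h : ∀ q, q ≤ p → q ∈ s) : ∃ t : R, t ∉ p.asIdeal ∧ ∀ q : PrimeSpectrum R, t ∉ q.asIdeal → q ∈ s := by
  obtain ⟨S, _, f, hf⟩ := PrimeSpectrum.exists_range_eq_of_isConstructible hs.compl
  have hp : ¬ RingHom.ker f ≤ p.asIdeal := fun hle => by
    obtain ⟨m, hm, hmp⟩ := Ideal.exists_minimalPrimes_le hle
    obtain ⟨m', hm', -, hcomap⟩ := Ideal.exists_comap_eq_of_mem_minimalPrimes f (I := ⊥) m (by
      rwa [← RingHom.ker_eq_comap_bot])
    have h1 : (⟨m, hm.1.1⟩ : PrimeSpectrum R) ∈ sᶜ := by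
      rw [← hf]; exact ⟨⟨m', hm'⟩, PrimeSpectrum.ext hcomap⟩
    exact h1 (h _ hmp)
  obtain ⟨t, htf, htp⟩ := SetLike.not_le_iff_exists.mp hp
  refine ⟨t, htp, fun q hq => by_contra fun hqs => ?_⟩
  obtain ⟨Q, rfl⟩ : q ∈ Set.range (PrimeSpectrum.comap f) := by rw [hf]; exact hqs
  exact hq (by show f t ∈ Q.asIdeal; rw [show f t = 0 from htf]; exact Ideal.zero_mem _)

/-- The valuative hypothesis in algebraic form. -/
def Lifts (A B : Type u) [CommRing A] [CommRing B] [Algebra A B] (x : PrimeSpectrum B) : Prop :=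
  ∀ (V : Type u) [CommRing V] [IsDomain V] [IsDiscreteValuationRing V] [Algebra A V]
    (M : PrimeSpectrum (B ⊗[A] V)),
    PrimeSpectrum.comap Algebra.TensorProduct.includeLeftRingHom M = x →
    PrimeSpectrum.comap (Algebra.TensorProduct.includeRight : V →ₐ[A] B ⊗[A] V).toRingHom M = IsLocalRing.closedPoint V →
    ∃ N, N ≤ M ∧
      PrimeSpectrum.comap (Algebra.TensorProduct.includeRight : V →ₐ[A] B ⊗[A] V).toRingHom N ≠ IsLocalRing.closedPoint V

variable (B) in
/-- Over a ring of finite type generizations lift. -/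
theorem lift_generization [IsNoetherianRing A] [Algebra.FiniteType A B] [Algebra.FiniteType A R₀]
    (x : PrimeSpectrum B) (H : Lifts A B x) (P₀ : PrimeSpectrum (B ⊗[A] R₀))
    (hP₀ : PrimeSpectrum.comap Algebra.TensorProduct.includeLeftRingHom P₀ = x) (p₁ : PrimeSpectrum R₀)
    (hp₁ : p₁ ≤ PrimeSpectrum.comap (Algebra.TensorProduct.includeRight : R₀ →ₐ[A] B ⊗[A] R₀).toRingHom P₀) :
    ∃ P₁, P₁ ≤ P₀ ∧
      PrimeSpectrum.comap (Algebra.TensorProduct.includeRight : R₀ →ₐ[A] B ⊗[A] R₀).toRingHom P₁ = p₁ := by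
  rcases hp₁.eq_or_lt with h | h
  · exact ⟨P₀, le_rfl, h.symm⟩
  haveI : IsNoetherianRing R₀ := Algebra.FiniteType.isNoetherianRing A R₀
  obtain ⟨V, _, _, _, φ, hker, hmax⟩ := Flat.DominateDvr.exists_dvr_of_lt R₀ p₁ _ h
  letI : Algebra A V := (φ.comp (algebraMap A R₀)).toAlgebra
  let φA : R₀ →ₐ[A] V := { φ with commutes' := fun _ => rfl }
  obtain ⟨M, hM₀, hMV⟩ := exists_prime_tensor φA P₀ (IsLocalRing.closedPoint V) (PrimeSpectrum.ext hmax)
  obtain ⟨N, hN, hNV⟩ := H V M (by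
    rw [← hP₀, ← hM₀, ← PrimeSpectrum.comap_comp_apply]
    congr 1
    exact RingHom.ext fun b => by simp) hMV
  refine ⟨PrimeSpectrum.comap (Algebra.TensorProduct.map (AlgHom.id A B) φA).toRingHom N, ?_, ?_⟩
  · rw [← hM₀]; exact Ideal.comap_mono hN
  · have hbot : PrimeSpectrum.comap (Algebra.TensorProduct.includeRight : V →ₐ[A] B ⊗[A] V).toRingHom N =
        (⟨⊥, Ideal.isPrime_bot⟩ : PrimeSpectrum V) := by
      by_contra hne
      refine hNV (PrimeSpectrum.ext ?_)
      exact IsLocalRing.eq_maximalIdeal ((PrimeSpectrum.comap _ N).2.isMaximal fun hb => hne (PrimeSpectrum.ext hb))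
    have h1 : PrimeSpectrum.comap φ (⟨⊥, Ideal.isPrime_bot⟩ : PrimeSpectrum V) = p₁ := PrimeSpectrum.ext hker
    rw [← h1, ← hbot, ← PrimeSpectrum.comap_comp_apply, ← PrimeSpectrum.comap_comp_apply]
    congr 1

variable (B) in
/-- Openness at `P` of `Spec (B ⊗ R) → Spec R`. -/
theorem image_mem_nhds [IsNoetherianRing A] [Algebra.FiniteType A B]
    (x : PrimeSpectrum B) (H : Lifts A B x) (P : PrimeSpectrum (B ⊗[A] R))
    (hP : PrimeSpectrum.comap Algebra.TensorProduct.includeLeftRingHom P = x)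
    (Ω : Set (PrimeSpectrum (B ⊗[A] R))) (hΩ : Ω ∈ nhds P) :
    PrimeSpectrum.comap (Algebra.TensorProduct.includeRight : R →ₐ[A] B ⊗[A] R).toRingHom '' Ω ∈
      nhds (PrimeSpectrum.comap (Algebra.TensorProduct.includeRight : R →ₐ[A] B ⊗[A] R).toRingHom P) := by
  classical
  obtain ⟨_, ⟨h, rfl⟩, hPh, hsub⟩ := PrimeSpectrum.isTopologicalBasis_basic_opens.mem_nhds_iff.mp hΩ
  obtain ⟨S, hS⟩ := TensorProduct.exists_finset h
  let R₁ := Algebra.adjoin A ((S.image Prod.snd : Finset R) : Set R)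
  haveI : Algebra.FiniteType A R₁ :=
    (Subalgebra.fg_iff_finiteType R₁).mp (Subalgebra.fg_adjoin_finset _)
  haveI : IsNoetherianRing R₁ := Algebra.FiniteType.isNoetherianRing A R₁
  let ι := Algebra.TensorProduct.map (AlgHom.id A B) R₁.val
  let h₀ : B ⊗[A] R₁ := ∑ i ∈ S.attach,
    i.1.1 ⊗ₜ (⟨i.1.2, Algebra.subset_adjoin (Finset.mem_coe.mpr (Finset.mem_image_of_mem _ i.2))⟩ : R₁)
  have hh₀ : ι h₀ = h := by
    rw [map_sum, hS, ← Finset.sum_attach S]
    refine Finset.sum_congr rfl fun i _ => ?_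
    simp [ι]
  let P₀ := PrimeSpectrum.comap ι.toRingHom P
  have hP₀ : PrimeSpectrum.comap Algebra.TensorProduct.includeLeftRingHom P₀ = x := by
    rw [← hP, ← PrimeSpectrum.comap_comp_apply]
    congr 1
  haveI : Algebra.FinitePresentation A B := Algebra.FinitePresentation.of_finiteType.mp inferInstance
  have hfp : (Algebra.TensorProduct.includeRight : R₁ →ₐ[A] B ⊗[A] R₁).toRingHom.FinitePresentation := by
    letI : Algebra R₁ (B ⊗[A] R₁) := Algebra.TensorProduct.rightAlgebra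
    refine RingHom.finitePresentation_algebraMap.mpr ?_
    haveI : Algebra.FiniteType R₁ (B ⊗[A] R₁) :=
      Algebra.FiniteType.equiv (inferInstance : Algebra.FiniteType R₁ (R₁ ⊗[A] B))
        { (Algebra.TensorProduct.comm A R₁ B) with commutes' := fun r => by simp; rfl }
    exact Algebra.FinitePresentation.of_finiteType.mp inferInstance
  have hc := PrimeSpectrum.isConstructible_comap_image hfp
    (s := (PrimeSpectrum.basicOpen h₀ : Set (PrimeSpectrum (B ⊗[A] R₁))))
    PrimeSpectrum.isConstructible_basicOpen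
  obtain ⟨t, ht, hts⟩ := mem_nhds_of_constructible _ hc
    (PrimeSpectrum.comap (Algebra.TensorProduct.includeRight : R₁ →ₐ[A] B ⊗[A] R₁).toRingHom P₀) fun q hq => by
      obtain ⟨P₁, hle, hP₁⟩ := lift_generization B x H P₀ hP₀ q hq
      refine ⟨P₁, fun hmem => hPh ?_, hP₁⟩
      have h2 : ι h₀ ∈ P.asIdeal := hle hmem
      rwa [hh₀] at h2
  refine Filter.mem_of_superset ((PrimeSpectrum.basicOpen (R₁.val t)).isOpen.mem_nhds ?_) fun q hq => ?_
  · intro hmem
    refine ht ?_
    show ι (1 ⊗ₜ t) ∈ P.asIdeal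
    simpa [ι] using hmem
  · obtain ⟨Q₀, hQ₀h, hQ₀⟩ := hts (PrimeSpectrum.comap R₁.val.toRingHom q) hq
    obtain ⟨Q, hQ1, hQ2⟩ := exists_prime_tensor R₁.val Q₀ q hQ₀.symm
    refine ⟨Q, hsub (fun hmem => hQ₀h ?_), hQ2⟩
    rw [← hQ1]
    show ι h₀ ∈ Q.asIdeal
    rw [hh₀]; exact hmem

end algebra

/-- The converse direction: openness gives generizations into the open generic fibre. -/
theorem exists_generization_of_isOpenAt {P : Scheme.{u}} {V : Type u} [CommRing V] [IsDomain V]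
    [IsDiscreteValuationRing V] (s : P ⟶ Spec (CommRingCat.of V)) [LocallyOfFiniteType s] (x' : P)
    (hcl : s x' = IsLocalRing.closedPoint V) (h : EGA43.IsOpenAt s.base x') :
    ∃ z', z' ⤳ x' ∧ s z' ≠ IsLocalRing.closedPoint V := by
  haveI : IsLocallyNoetherian P := LocallyOfFiniteType.isLocallyNoetherian s
  obtain ⟨O, hxO, hO⟩ := Equidim.AffineParam.exists_nhd_gen x'
  let b : PrimeSpectrum V := ⟨⊥, Ideal.isPrime_bot⟩
  have hsp : b ⤳ IsLocalRing.closedPoint V := (PrimeSpectrum.le_iff_specializes _ _).mp bot_le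
  have hN := h _ (O.isOpen.mem_nhds hxO)
  rw [show s.base x' = IsLocalRing.closedPoint V from hcl, mem_nhds_iff] at hN
  obtain ⟨W, hW, hWo, hmem⟩ := hN
  obtain ⟨z, hzO, hz⟩ := hW (hsp.mem_open hWo hmem)
  obtain ⟨g, hg, hgmax⟩ := Equidim.AffineCrit.exists_maximal_above z
  refine ⟨g, hO g (hg.mem_open O.isOpen hzO) hgmax, fun he => ?_⟩
  have h1 : IsLocalRing.closedPoint V ⤳ b := by
    rw [← he]
    exact (hg.map s.continuous).trans (specializes_of_eq hz)
  exact IsDiscreteValuationRing.not_a_field V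
    (le_bot_iff.mp ((PrimeSpectrum.le_iff_specializes (IsLocalRing.closedPoint V) b).mpr h1))

section chart
variable {X Y : Scheme.{u}} (f : X ⟶ Y) {U₀ : Y.Opens} (hU₀ : IsAffineOpen U₀) {V : X.Opens}
  (hV : IsAffineOpen V) (hVU : V ≤ f ⁻¹ᵁ U₀) [Algebra Γ(Y, U₀) Γ(X, V)]
  (halg : algebraMap Γ(Y, U₀) Γ(X, V) = (f.appLE U₀ V hVU).hom)

include hU₀ hV halg in
/-- A chart of a base change. -/
theorem exists_chart (R : Type u) [CommRing R] [Algebra Γ(Y, U₀) R] {Y' : Scheme.{u}} (g : Y' ⟶ Y)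
    (jR : Spec (CommRingCat.of R) ⟶ Y') [IsOpenImmersion jR]
    (hR : Spec.map (CommRingCat.ofHom (algebraMap Γ(Y, U₀) R)) ≫ hU₀.fromSpec = jR ≫ g) :
    ∃ j : Spec (CommRingCat.of (Γ(X, V) ⊗[Γ(Y, U₀)] R)) ⟶ pullback f g, IsOpenImmersion j ∧
      (∀ P : PrimeSpectrum _, pullback.fst f g (j P) =
        hV.fromSpec (PrimeSpectrum.comap Algebra.TensorProduct.includeLeftRingHom P)) ∧
      (∀ P : PrimeSpectrum _, pullback.snd f g (j P) =
        jR (PrimeSpectrum.comap (Algebra.TensorProduct.includeRight : R →ₐ[Γ(Y, U₀)] Γ(X, V) ⊗[Γ(Y, U₀)] R).toRingHom P)) ∧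
      ∀ z : ↥(pullback f g), pullback.fst f g z ∈ V → pullback.snd f g z ∈ Set.range jR → z ∈ Set.range j := by
  have hB : Spec.map (CommRingCat.ofHom (algebraMap Γ(Y, U₀) Γ(X, V))) ≫ hU₀.fromSpec = hV.fromSpec ≫ f := by
    rw [← IsAffineOpen.SpecMap_appLE_fromSpec f hU₀ hV hVU, halg]
    rfl
  let m := pullback.map (Spec.map (CommRingCat.ofHom (algebraMap Γ(Y, U₀) Γ(X, V))))
    (Spec.map (CommRingCat.ofHom (algebraMap Γ(Y, U₀) R))) f g hV.fromSpec jR hU₀.fromSpec hB hR
  refine ⟨(pullbackSpecIso Γ(Y, U₀) Γ(X, V) R).inv ≫ m, inferInstance, fun P => ?_, fun P => ?_, fun z hz1 hz2 => ?_⟩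
  · show (((pullbackSpecIso _ _ _).inv ≫ m) ≫ pullback.fst f g) P = _
    simp only [m, Category.assoc, pullback.map, pullback.lift_fst, pullbackSpecIso_inv_fst_assoc]
    rfl
  · show (((pullbackSpecIso _ _ _).inv ≫ m) ≫ pullback.snd f g) P = _
    simp only [m, Category.assoc, pullback.map, pullback.lift_snd, pullbackSpecIso_inv_snd_assoc]
    rfl
  · obtain ⟨w, hw⟩ : z ∈ Set.range m := by
      rw [Scheme.Pullback.range_map]
      exact ⟨hV.range_fromSpec.superset hz1, hz2⟩
    refine ⟨(pullbackSpecIso Γ(Y, U₀) Γ(X, V) R).hom w, ?_⟩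
    rw [← hw]
    show ((pullbackSpecIso _ _ _).hom ≫ (pullbackSpecIso _ _ _).inv ≫ m) w = _
    rw [Iso.hom_inv_id_assoc]

end chart

set_option maxHeartbeats 1000000 in
/-- The criterion. -/
theorem main {X Y : Scheme.{u}} [IsLocallyNoetherian Y] (f : X ⟶ Y)
    [LocallyOfFiniteType f] (x : X) :
    EGA43.IsUnivOpenAt f x ↔
      ∀ (A : Type u) [CommRing A] [IsDomain A] [IsDiscreteValuationRing A]
        (g : Spec (CommRingCat.of A) ⟶ Y), g.base (IsLocalRing.closedPoint A) = f.base x →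
        ∀ x' : ↥(pullback f g), (pullback.fst f g).base x' = x →
          (pullback.snd f g).base x' = IsLocalRing.closedPoint A →
          ∃ z' : ↥(pullback f g), z' ⤳ x' ∧ (pullback.snd f g).base z' ≠ IsLocalRing.closedPoint A := by
  refine ⟨fun h A _ _ _ g hg x' hx' hcl =>
    exists_generization_of_isOpenAt (pullback.snd f g) x' hcl (h _ g x' hx'), fun h Y' g x' hx' Ω hΩ => ?_⟩
  obtain ⟨U₀, hU₀, hyU₀, -⟩ := exists_isAffineOpen_mem_and_subset (X := Y) (U := ⊤) (x := f x) trivial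
  obtain ⟨V, hV, hxV, hVU⟩ :=
    exists_isAffineOpen_mem_and_subset (X := X) (U := f ⁻¹ᵁ U₀) (x := x) hyU₀
  have hgU : g (pullback.snd f g x') ∈ U₀ := by
    show (pullback.snd f g ≫ g) x' ∈ U₀
    rw [← pullback.condition]
    show f (pullback.fst f g x') ∈ U₀
    rw [show pullback.fst f g x' = x from hx']
    exact hyU₀
  obtain ⟨W, hW, hyW, hWU⟩ :=
    exists_isAffineOpen_mem_and_subset (X := Y') (U := g ⁻¹ᵁ U₀) (x := pullback.snd f g x') hgU
  letI : Algebra Γ(Y, U₀) Γ(X, V) := (f.appLE U₀ V hVU).hom.toAlgebra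
  letI : Algebra Γ(Y, U₀) Γ(Y', W) := (g.appLE U₀ W hWU).hom.toAlgebra
  haveI : IsNoetherianRing Γ(Y, U₀) := IsLocallyNoetherian.component_noetherian ⟨U₀, hU₀⟩
  haveI : Algebra.FiniteType Γ(Y, U₀) Γ(X, V) := LocallyOfFiniteType.finiteType_appLE f hU₀ hV hVU
  obtain ⟨j, hj, hj1, hj2, hj3⟩ := exists_chart f hU₀ hV hVU rfl Γ(Y', W) g hW.fromSpec (by
    rw [← IsAffineOpen.SpecMap_appLE_fromSpec g hU₀ hW hWU]; rfl)
  obtain ⟨P', hP'⟩ := hj3 x' (by rw [show pullback.fst f g x' = x from hx']; exact hxV)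
    (hW.range_fromSpec.superset hyW)
  let P : PrimeSpectrum (Γ(X, V) ⊗[Γ(Y, U₀)] Γ(Y', W)) := P'
  replace hP' : j P = x' := hP'
  let xB := PrimeSpectrum.comap Algebra.TensorProduct.includeLeftRingHom P
  have hxB : hV.fromSpec xB = x := by rw [← hj1, hP']; exact hx'
  have H : Lifts Γ(Y, U₀) Γ(X, V) xB := fun D _ _ _ _ M hM1 hM2 => by
    let gD : Spec (CommRingCat.of D) ⟶ Y := Spec.map (CommRingCat.ofHom (algebraMap Γ(Y, U₀) D)) ≫ hU₀.fromSpec
    obtain ⟨jD, hjD, hjD1, hjD2, hjD3⟩ := exists_chart f hU₀ hV hVU rfl D gD (𝟙 _) (Category.id_comp _).symm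
    have h1 : pullback.fst f gD (jD M) = x := by rw [hjD1, hM1, hxB]
    have h2 : pullback.snd f gD (jD M) = IsLocalRing.closedPoint D := by rw [hjD2, hM2]; rfl
    have h3 : gD (IsLocalRing.closedPoint D) = f x := by
      rw [← h1, ← h2]
      exact (congrArg (fun k : pullback f gD ⟶ Y => k (jD M)) pullback.condition).symm
    obtain ⟨z', hz', hzne⟩ := h D gD h3 (jD M) h1 h2
    obtain ⟨N, rfl⟩ : z' ∈ Set.range jD := hz'.mem_open jD.opensRange.isOpen ⟨M, rfl⟩
    refine ⟨N, (PrimeSpectrum.le_iff_specializes _ _).mpr (jD.isOpenEmbedding.isInducing.specializes_iff.mp hz'), ?_⟩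
    intro he
    exact hzne (by rw [hjD2, he]; rfl)
  have hn := image_mem_nhds Γ(X, V) xB H P rfl (j ⁻¹' Ω) (j.continuous.continuousAt.preimage_mem_nhds (by rw [hP']; exact hΩ))
  have hn2 := hW.fromSpec.isOpenEmbedding.isOpenMap.image_mem_nhds hn
  rw [← hj2, hP'] at hn2
  refine Filter.mem_of_superset hn2 ?_
  rintro _ ⟨_, ⟨Q, hQ, rfl⟩, rfl⟩
  exact ⟨j Q, hQ, hj2 Q⟩

/-- The maximal points of the base changes to DVRs. -/
theorem dense_image_iff {P : Scheme.{u}} {V : Type u} [CommRing V] [IsDomain V]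
    [IsDiscreteValuationRing V] (s : P ⟶ Spec (CommRingCat.of V)) {Z : Set P}
    (hZ : Z ∈ irreducibleComponents (P : Type u)) :
    Dense (s.base '' Z) ↔ s hZ.1.genericPoint ≠ IsLocalRing.closedPoint V := by
  rw [dense_iff_closure_eq, Equidim.AffineCrit.closure_image_component s.continuous hZ]
  have hc : IsClosed ({IsLocalRing.closedPoint V} : Set (PrimeSpectrum V)) := by
    rw [PrimeSpectrum.isClosed_singleton_iff_isMaximal]
    exact IsLocalRing.maximalIdeal.isMaximal V
  let b : PrimeSpectrum V := ⟨⊥, Ideal.isPrime_bot⟩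
  constructor
  · intro h he
    rw [show s.base hZ.1.genericPoint = IsLocalRing.closedPoint V from he] at h
    have h1 : b ∈ closure ({IsLocalRing.closedPoint V} : Set (PrimeSpectrum V)) :=
      (Set.ext_iff.mp h b).mpr trivial
    rw [hc.closure_eq] at h1
    exact IsDiscreteValuationRing.not_a_field V (congrArg PrimeSpectrum.asIdeal h1).symm
  · intro hne
    have h1 : s.base hZ.1.genericPoint = b := by
      by_contra hb
      refine hne (PrimeSpectrum.ext ?_)
      exact IsLocalRing.eq_maximalIdeal ((s.base hZ.1.genericPoint : PrimeSpectrum V).2.isMaximal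
        fun h => hb (PrimeSpectrum.ext h))
    rw [h1]
    refine Set.eq_univ_of_forall fun z => ?_
    exact ((PrimeSpectrum.le_iff_specializes b z).mp bot_le).mem_closure

theorem fibre_iff {X Y : Scheme.{u}} [IsLocallyNoetherian Y] (f : X ⟶ Y)
    [LocallyOfFiniteType f] (y : Y) :
    (∀ x : X, f.base x = y → EGA43.IsUnivOpenAt f x) ↔
      ∀ (A : Type u) [CommRing A] [IsDomain A] [IsDiscreteValuationRing A] (g : Spec (CommRingCat.of A) ⟶ Y),
        g.base (IsLocalRing.closedPoint A) = y →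
        ∀ Z ∈ irreducibleComponents (↥(pullback f g) : Type u), Dense ((pullback.snd f g).base '' Z) := by
  constructor
  · intro h A _ _ _ g hg Z hZ
    rw [dense_image_iff _ hZ]
    intro he
    let ζ := hZ.1.genericPoint
    have hx : f (pullback.fst f g ζ) = y := by
      rw [← hg, ← he]
      exact congrArg (fun k : pullback f g ⟶ Y => k ζ) pullback.condition
    obtain ⟨z', hz', hne⟩ := (main f _).mp (h _ hx) A g (by rw [hg]; exact hx.symm) ζ rfl he
    exact hne (by rw [Equidim.AffineCrit.genericPoint_maximal hZ z' hz']; exact he)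
  · intro h x hx
    refine (main f x).mpr fun A _ _ _ g hg x' hx' hcl => ?_
    have hZ := irreducibleComponent_mem_irreducibleComponents x'
    refine ⟨hZ.1.genericPoint, ?_, (dense_image_iff _ hZ).mp (h A g (hg.trans hx) _ hZ)⟩
    rw [specializes_iff_mem_closure, hZ.1.genericPoint_closure_eq, isClosed_irreducibleComponent.closure_eq]
    exact mem_irreducibleComponent

theorem universallyOpen_iff {X Y : Scheme.{u}} [IsLocallyNoetherian Y] (f : X ⟶ Y)
    [LocallyOfFiniteType f] :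
    UniversallyOpen f ↔
      ∀ (A : Type u) [CommRing A] [IsDomain A] [IsDiscreteValuationRing A] (g : Spec (CommRingCat.of A) ⟶ Y),
        ∀ Z ∈ irreducibleComponents (↥(pullback f g) : Type u), Dense ((pullback.snd f g).base '' Z) := by
  constructor
  · intro h A _ _ _ g Z hZ
    refine (fibre_iff f (g.base (IsLocalRing.closedPoint A))).mp (fun x _ Y' k x' _ Ω hΩ => ?_) A g rfl Z hZ
    exact (pullback.snd f k).isOpenMap.image_mem_nhds hΩ
  · intro h
    refine ⟨MorphismProperty.universally_mk' _ _ fun {T} k _ => ?_⟩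
    have hop : IsOpenMap (pullback.snd f k).base := isOpenMap_iff_nhds_le.mpr fun x' s hs =>
      Filter.mem_of_superset (((fibre_iff f (f (pullback.fst f k x'))).mpr
          (fun A _ _ _ g _ Z hZ => h A g Z hZ) _ rfl) T k x' rfl _ hs) (Set.image_preimage_subset _ _)
    have : pullback.fst k f = (pullbackSymmetry k f).hom ≫ pullback.snd f k := (pullbackSymmetry_hom_comp_snd k f).symm
    show IsOpenMap (pullback.fst k f).base
    rw [this]
    exact hop.comp (pullbackSymmetry k f).hom.homeomorph.isOpenMap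

end Groth.Agent.UnivOpenAt.Dvr
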