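import Groth.Prelude.Def_EGA43
import Mathlib.AlgebraicGeometry.PullbackCarrier
import Mathlib.CategoryTheory.Limits.Shapes.Pullback.IsPullback.Basic

/-! Basic permanence of `EGA43.IsUnivOpenAt`. -/

universe u

open CategoryTheory CategoryTheory.Limits AlgebraicGeometry EGA43

namespace Groth.Agent.UnivOpenAt

theorem isOpenAt_comp {α β γ : Type*} [TopologicalSpace α] [TopologicalSpace β] [TopologicalSpace γ]
    {f : α → β} {g : β → γ} {x : α} (hf : IsOpenAt f x) (hg : IsOpenAt g (f x)) : IsOpenAt (g ∘ f) x :=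
  fun U hU => by rw [Set.image_comp]; exact hg _ (hf U hU)

theorem isOpenAt_of_comp {α β γ : Type*} [TopologicalSpace α] [TopologicalSpace β] [TopologicalSpace γ]
    {f : α → β} {g : β → γ} {x : α} (hf : Continuous f) (h : IsOpenAt (g ∘ f) x) : IsOpenAt g (f x) := fun U hU =>
  Filter.mem_of_superset (h _ (hf.continuousAt.preimage_mem_nhds hU)) (by
    rw [Set.image_comp]
    exact Set.image_mono (Set.image_preimage_subset _ _))

theorem isOpenAt_comp_homeomorph {α β γ : Type*} [TopologicalSpace α] [TopologicalSpace β] [TopologicalSpace γ]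
    (e : α ≃ₜ β) {g : β → γ} {x : α} (h : IsOpenAt g (e x)) : IsOpenAt (g ∘ e) x := fun U hU => by
  rw [Set.image_comp]
  exact h _ (e.isOpenMap.image_mem_nhds hU)

theorem isOpenAt_of_isPullback {X Y P Y' : Scheme.{u}} {fst : P ⟶ X} {snd : P ⟶ Y'} {f : X ⟶ Y} {g : Y' ⟶ Y}
    (hP : IsPullback fst snd f g) {x : X} (h : IsUnivOpenAt f x) (x' : P) (hx' : fst.base x' = x) :
    IsOpenAt snd.base x' := by
  have h1 := h Y' g (hP.isoPullback.hom.base x') (by
    rw [← Scheme.Hom.comp_apply, hP.isoPullback_hom_fst]; exact hx')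
  have h2 := isOpenAt_comp_homeomorph (Scheme.homeoOfIso hP.isoPullback) (x := x') h1
  intro U hU
  have h3 := h2 U hU
  have he : ((pullback.snd f g).base ∘ Scheme.homeoOfIso hP.isoPullback : P → Y') = snd.base :=
    funext fun z => by
      change (pullback.snd f g).base (hP.isoPullback.hom.base z) = _
      rw [← Scheme.Hom.comp_apply, hP.isoPullback_hom_snd]
  rw [he] at h3
  exact h3

theorem baseChange {X Y P Y' : Scheme.{u}} {fst : P ⟶ X} {snd : P ⟶ Y'} {f : X ⟶ Y} {g : Y' ⟶ Y}
    (hP : IsPullback fst snd f g) {x : X} (h : IsUnivOpenAt f x) (x' : P) (hx' : fst.base x' = x) :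
    IsUnivOpenAt snd x' := fun Z k z hz =>
  isOpenAt_of_isPullback ((IsPullback.of_hasPullback snd k).paste_horiz hP) h z (by
    rw [Scheme.Hom.comp_apply, hz, hx'])

/-- The intermediate fibre product for a composite. -/
theorem isPullback_lift {X Y Z Z' : Scheme.{u}} (f : X ⟶ Y) (g : Y ⟶ Z) (k : Z' ⟶ Z) :
    IsPullback (pullback.fst (f ≫ g) k)
      (pullback.lift (pullback.fst (f ≫ g) k ≫ f) (pullback.snd (f ≫ g) k) (by rw [Category.assoc]; exact pullback.condition) :
        pullback (f ≫ g) k ⟶ pullback g k)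
      f (pullback.fst g k) := by
  refine IsPullback.of_bot ?_ (pullback.lift_fst _ _ _).symm (IsPullback.of_hasPullback g k)
  rw [pullback.lift_snd]
  exact IsPullback.of_hasPullback (f ≫ g) k

theorem comp {X Y Z : Scheme.{u}} {f : X ⟶ Y} {g : Y ⟶ Z} {x : X} (hf : IsUnivOpenAt f x)
    (hg : IsUnivOpenAt g (f.base x)) : IsUnivOpenAt (f ≫ g) x := fun Z' k z hz => by
  have hm := isPullback_lift f g k
  have h1 := isOpenAt_of_isPullback hm hf z hz
  let m : pullback (f ≫ g) k ⟶ pullback g k :=
    pullback.lift (pullback.fst (f ≫ g) k ≫ f) (pullback.snd (f ≫ g) k) (by rw [Category.assoc]; exact pullback.condition)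
  have h2 := hg Z' k (m.base z) (by
    rw [← Scheme.Hom.comp_apply, pullback.lift_fst, Scheme.Hom.comp_apply, hz])
  intro U hU
  have h3 := isOpenAt_comp h1 h2 U hU
  rw [show ((pullback.snd g k).base ∘ m.base : _ → Z') = (pullback.snd (f ≫ g) k).base from
    funext fun y => by rw [Function.comp_apply, ← Scheme.Hom.comp_apply, pullback.lift_snd]] at h3
  exact h3

theorem of_comp {X Y Z : Scheme.{u}} {f : X ⟶ Y} {g : Y ⟶ Z} {x : X} (h : IsUnivOpenAt (f ≫ g) x) :
    IsUnivOpenAt g (f.base x) := fun Z' k y hy => by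
  let hm := isPullback_lift f g k
  let m : pullback (f ≫ g) k ⟶ pullback g k :=
    pullback.lift (pullback.fst (f ≫ g) k ≫ f) (pullback.snd (f ≫ g) k) (by rw [Category.assoc]; exact pullback.condition)
  obtain ⟨w, hw₁, hw₂⟩ := Scheme.Pullback.exists_preimage_pullback (f := f) (g := pullback.fst g k) x y hy.symm
  let z := hm.isoPullback.inv.base w
  have hz₁ : (pullback.fst (f ≫ g) k).base z = x := by
    rw [← Scheme.Hom.comp_apply, hm.isoPullback_inv_fst]; exact hw₁
  have hz₂ : m.base z = y := by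
    rw [← Scheme.Hom.comp_apply, show hm.isoPullback.inv ≫ m = pullback.snd f (pullback.fst g k) from hm.isoPullback_inv_snd]
    exact hw₂
  rw [← hz₂]
  refine isOpenAt_of_comp (x := z) m.continuous ?_
  rw [show ((pullback.snd g k).base ∘ m.base : _ → Z') = (pullback.snd (f ≫ g) k).base from
    funext fun y => by rw [Function.comp_apply, ← Scheme.Hom.comp_apply, pullback.lift_snd]]
  exact h Z' k z hz₁

end Groth.Agent.UnivOpenAt
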