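import Groth.Agent.UnivOpenAt.Basic
import Mathlib.AlgebraicGeometry.Morphisms.UniversallyClosed

/-! Descent of `EGA43.IsUnivOpenAt` along finite families of universally closed jointly surjective maps. -/

universe u w

open CategoryTheory CategoryTheory.Limits AlgebraicGeometry EGA43

namespace Groth.Agent.UnivOpenAt

theorem of_universallyClosed_family {X Y : Scheme.{u}} (f : X ⟶ Y) (x : X) {ι : Type w} [Finite ι]
    (T : ι → Scheme.{u}) (v : ∀ i, T i ⟶ Y) [∀ i, UniversallyClosed (v i)]
    (hcov : ⋃ i, Set.range (v i).base = Set.univ)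
    (h : ∀ i, ∀ x₁ : ↥(pullback f (v i)), (pullback.fst f (v i)).base x₁ = x →
      IsUnivOpenAt (pullback.snd f (v i)) x₁) :
    IsUnivOpenAt f x := by
  intro Y' g x' hx' U hU
  let f' := pullback.snd f g
  let w : ∀ i, pullback g (v i) ⟶ Y' := fun i => pullback.fst g (v i)
  let Z : ∀ i, Set ↥(pullback g (v i)) := fun i => (interior ((w i).base ⁻¹' (f'.base '' U)))ᶜ
  have hclosed : IsClosed (⋃ i, (w i).base '' Z i) := isClosed_iUnion_of_finite fun i =>
    (w i).isClosedMap _ isOpen_interior.isClosed_compl
  refine Filter.mem_of_superset (hclosed.isOpen_compl.mem_nhds ?_) ?_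
  · intro hmem
    obtain ⟨i, y₁, hy₁, hwy⟩ := Set.mem_iUnion.mp hmem
    apply hy₁
    rw [mem_interior_iff_mem_nhds]
    obtain ⟨p, hp₁, hp₂⟩ := Scheme.Pullback.exists_preimage_pullback (f := f') (g := w i) x' y₁ hwy.symm
    let l : pullback f' (w i) ⟶ pullback f (v i) := pullback.lift (pullback.fst f' (w i) ≫ pullback.fst f g)
      (pullback.snd f' (w i) ≫ pullback.snd g (v i))
      (by rw [Category.assoc, Category.assoc, pullback.condition, ← pullback.condition (f := g),
        pullback.condition_assoc])
    have hbig : IsPullback (pullback.fst f' (w i) ≫ pullback.fst f g) (pullback.snd f' (w i)) f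
        (pullback.snd g (v i) ≫ v i) := by
      rw [← pullback.condition]
      exact (IsPullback.of_hasPullback f' (w i)).paste_horiz (IsPullback.of_hasPullback f g)
    have hl : IsPullback l (pullback.snd f' (w i)) (pullback.snd f (v i)) (pullback.snd g (v i)) :=
      IsPullback.of_right (by rw [pullback.lift_fst]; exact hbig) (pullback.lift_snd _ _ _)
        (IsPullback.of_hasPullback f (v i))
    have hx₁ : (pullback.fst f (v i)).base (l.base p) = x := by
      rw [← Scheme.Hom.comp_apply, pullback.lift_fst, Scheme.Hom.comp_apply, hp₁, hx']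
    have hopen := isOpenAt_of_isPullback hl (h i _ hx₁) p rfl ((pullback.fst f' (w i)).base ⁻¹' U)
      ((pullback.fst f' (w i)).continuous.continuousAt.preimage_mem_nhds (by rw [hp₁]; exact hU))
    rw [hp₂] at hopen
    refine Filter.mem_of_superset hopen ?_
    rintro _ ⟨q, hq, rfl⟩
    refine ⟨(pullback.fst f' (w i)).base q, hq, ?_⟩
    rw [← Scheme.Hom.comp_apply, pullback.condition, Scheme.Hom.comp_apply]
  · intro y hy
    obtain ⟨i, t, ht⟩ := Set.mem_iUnion.mp (hcov ▸ Set.mem_univ (g.base y) : g.base y ∈ ⋃ i, Set.range (v i).base)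
    obtain ⟨y₁, hy₁, -⟩ := Scheme.Pullback.exists_preimage_pullback (f := g) (g := v i) y t ht.symm
    by_contra hn
    refine hy (Set.mem_iUnion.mpr ⟨i, y₁, fun hin => hn ?_, hy₁⟩)
    have := interior_subset hin
    rwa [Set.mem_preimage, hy₁] at this

end Groth.Agent.UnivOpenAt
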